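import Groth.Prelude.Def_ModSite
import Mathlib.Algebra.Category.ModuleCat.Sheaf.Quasicoherent
import Mathlib.Algebra.Category.ModuleCat.Descent
import Mathlib.Algebra.Category.ModuleCat.Presheaf.Colimits
import Mathlib.CategoryTheory.Abelian.DiagramLemmas.Four

/-!
Quasi-coherent modules for a chaotic topology: evaluation functors, base change maps.
-/

set_option autoImplicit false
set_option backward.isDefEq.respectTransparency false
set_option backward.isDefEq.respectTransparency.types false
universe u
open CategoryTheory Limits Opposite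
open scoped ChangeOfRings

namespace Groth.Agent.ChaoticQcLib

/-- A natural transformation between functors preserving a colimit which is an isomorphism on the
diagram is one on the colimit. -/
theorem isIso_app_of_isColimit {A B : Type*} [Category A] [Category B] {K : Type*} [Category K]
    {F G : A ⥤ B} (τ : F ⟶ G) {D : K ⥤ A} {c : Cocone D} (hc : IsColimit c)
    [PreservesColimit D F] [PreservesColimit D G] [∀ k, IsIso (τ.app (D.obj k))] :
    IsIso (τ.app c.pt) := by
  haveI : ∀ k, IsIso ((Functor.whiskerLeft D τ).app k) := fun k => by dsimp; infer_instance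
  haveI : IsIso (Functor.whiskerLeft D τ) := NatIso.isIso_of_isIso_app _
  have e : τ.app c.pt = ((isColimitOfPreserves F hc).coconePointsIsoOfNatIso
      (isColimitOfPreserves G hc) (asIso (Functor.whiskerLeft D τ))).hom := by
    apply (isColimitOfPreserves F hc).hom_ext
    intro k
    rw [IsColimit.comp_coconePointsIsoOfNatIso_hom]
    exact τ.naturality (c.ι.app k)
  rw [e]
  infer_instance

theorem isIso_app_of_isLimit {A B : Type*} [Category A] [Category B] {K : Type*} [Category K]
    {F G : A ⥤ B} (τ : F ⟶ G) {D : K ⥤ A} {c : Cone D} (hc : IsLimit c)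
    [PreservesLimit D F] [PreservesLimit D G] [∀ k, IsIso (τ.app (D.obj k))] :
    IsIso (τ.app c.pt) := by
  haveI : ∀ k, IsIso ((Functor.whiskerLeft D τ).app k) := fun k => by dsimp; infer_instance
  haveI : IsIso (Functor.whiskerLeft D τ) := NatIso.isIso_of_isIso_app _
  have e : τ.app c.pt = ((isLimitOfPreserves F hc).conePointsIsoOfNatIso
      (isLimitOfPreserves G hc) (asIso (Functor.whiskerLeft D τ))).hom := by
    apply (isLimitOfPreserves G hc).hom_ext
    intro k
    rw [IsLimit.conePointsIsoOfNatIso_hom_comp]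
    exact (τ.naturality (c.π.app k)).symm
  rw [e]
  infer_instance

theorem isIso_app_of_isKernel {A B : Type*} [Category A] [Category B] [HasZeroMorphisms A]
    {P Q : A ⥤ B} (τ : P ⟶ Q) {K F G : A} {α : F ⟶ G} {p : K ⟶ F} {w : p ≫ α = 0}
    (hc : IsLimit (KernelFork.ofι p w)) [PreservesFiniteLimits P] [PreservesFiniteLimits Q]
    (hF : IsIso (τ.app F)) (hG : IsIso (τ.app G)) : IsIso (τ.app K) := by
  haveI : ∀ k, IsIso (τ.app ((parallelPair α 0).obj k)) := by
    rintro (_ | _)
    · exact hF
    · exact hG
  exact isIso_app_of_isLimit τ hc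

theorem isIso_app_of_isCokernel {A B : Type*} [Category A] [Category B] [HasZeroMorphisms A]
    {P Q : A ⥤ B} (τ : P ⟶ Q) {M F G : A} {α : F ⟶ G} {p : G ⟶ M} {w : α ≫ p = 0}
    (hc : IsColimit (CokernelCofork.ofπ p w)) [PreservesFiniteColimits P] [PreservesFiniteColimits Q]
    (hF : IsIso (τ.app F)) (hG : IsIso (τ.app G)) : IsIso (τ.app M) := by
  haveI : ∀ k, IsIso (τ.app ((parallelPair α 0).obj k)) := by
    rintro (_ | _)
    · exact hF
    · exact hG
  exact isIso_app_of_isColimit τ hc

variable {C : Type u} [SmallCategory C] {J : GrothendieckTopology C}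

/-- Only maximal sieves cover. -/
def IsChaotic (J : GrothendieckTopology C) : Prop := ∀ (U : C) (S : Sieve U), S ∈ J U → S = ⊤

theorem isChaotic_bot : IsChaotic (⊥ : GrothendieckTopology C) :=
  fun U S hS => GrothendieckTopology.bot_covering.1 hS

theorem IsChaotic.over (hJ : IsChaotic J) (X : C) : IsChaotic (J.over X) := by
  intro U S hS
  have h := hJ _ _ ((J.mem_over_iff _).1 hS)
  exact (Sieve.overEquiv U).injective (by rw [h, Sieve.overEquiv_top])

theorem IsChaotic.isSheaf (hJ : IsChaotic J) {A : Type*} [Category A] (P : Cᵒᵖ ⥤ A) :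
    Presheaf.IsSheaf J P := by
  intro E X S hS
  obtain rfl := hJ X S hS
  exact Presieve.isSheafFor_top _

theorem isEquivalence_forget (hJ : IsChaotic J) (R : Sheaf J RingCat.{u}) :
    (SheafOfModules.forget.{u} R).IsEquivalence where
  faithful := inferInstance
  full := inferInstance
  essSurj := ⟨fun P => ⟨⟨P, hJ.isSheaf _⟩, ⟨Iso.refl _⟩⟩⟩

variable (O : Sheaf J CommRingCat.{u})

/-- Sections over `U`, as modules over the commutative ring `O(U)`. -/
noncomputable def ev (U : C) : ModSite.Mod O ⥤ ModuleCat.{u} (O.obj.obj (op U)) :=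
  SheafOfModules.forget (ModSite.ringSh O) ⋙
    PresheafOfModules.evaluation (ModSite.ringSh O).obj (op U)

instance (U : C) : (ev O U).Additive :=
  inferInstanceAs (SheafOfModules.forget.{u} (ModSite.ringSh O) ⋙
    PresheafOfModules.evaluation (ModSite.ringSh O).obj (op U)).Additive

theorem preservesColimits_ev (hJ : IsChaotic J) (U : C) :
    PreservesColimitsOfSize.{u, u} (ev O U) := by
  have := isEquivalence_forget hJ (ModSite.ringSh O)
  exact inferInstanceAs (PreservesColimitsOfSize.{u, u} (SheafOfModules.forget.{u}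
    (ModSite.ringSh O) ⋙ PresheafOfModules.evaluation (ModSite.ringSh O).obj (op U)))

theorem preservesFiniteColimits_ev (hJ : IsChaotic J) (U : C) :
    PreservesFiniteColimits (ev O U) := by
  have := preservesColimits_ev O hJ U
  exact PreservesColimitsOfSize.preservesFiniteColimits (ev O U)

theorem preservesFiniteLimits_ev (U : C) : PreservesFiniteLimits (ev O U) := by
  exact inferInstanceAs (PreservesFiniteLimits (SheafOfModules.forget.{u}
    (ModSite.ringSh O) ⋙ PresheafOfModules.evaluation (ModSite.ringSh O).obj (op U)))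

theorem epi_of_surjective {F G : ModSite.Mod O} (f : F ⟶ G)
    (h : ∀ U : C, Function.Surjective (f.val.app (op U))) : Epi f :=
  have e : Epi f.val := PresheafOfModules.epi_of_surjective (fun X => h X.unop)
  ⟨fun a b w => SheafOfModules.hom_ext ((cancel_epi f.val).1 (congrArg SheafOfModules.Hom.val w))⟩

section ChangeOfRings

variable {A B : Type u} [CommRing A] [CommRing B] (φ : A →+* B)

theorem homEquiv_symm_tmul {M : ModuleCat.{u} A} {N : ModuleCat.{u} B}
    (h : M ⟶ (ModuleCat.restrictScalars φ).obj N) (s : B) (m : M) :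
    (((ModuleCat.extendRestrictScalarsAdj φ).homEquiv M N).symm h).hom (s ⊗ₜ[A,φ] m) =
      s • (show N from h.hom m) := by
  rfl

theorem homEquiv_symm_naturality {M M' : ModuleCat.{u} A} {N N' : ModuleCat.{u} B}
    {h : M ⟶ (ModuleCat.restrictScalars φ).obj N} {h' : M' ⟶ (ModuleCat.restrictScalars φ).obj N'}
    (a : M ⟶ M') (b : N ⟶ N') (w : h ≫ (ModuleCat.restrictScalars φ).map b = a ≫ h') :
    (ModuleCat.extendScalars φ).map a ≫
        ((ModuleCat.extendRestrictScalarsAdj φ).homEquiv M' N').symm h' =
      ((ModuleCat.extendRestrictScalarsAdj φ).homEquiv M N).symm h ≫ b :=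
  (Adjunction.homEquiv_naturality_left_symm _ _ _).symm.trans
    ((congrArg _ w.symm).trans (Adjunction.homEquiv_naturality_right_symm _ _ _))

theorem isIso_homEquiv_symm_self (h : ModuleCat.of A A ⟶
    (ModuleCat.restrictScalars φ).obj (ModuleCat.of B B)) (h1 : h.hom (1 : A) = (1 : B)) :
    IsIso (((ModuleCat.extendRestrictScalarsAdj φ).homEquiv (ModuleCat.of A A)
      (ModuleCat.of B B)).symm h) := by
  rw [ConcreteCategory.isIso_iff_bijective]
  letI := φ.toAlgebra
  have hm : ∀ m : A, (h.hom m : B) = φ m := by
    intro m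
    have e := h.hom.map_smul m (1 : A)
    rw [h1, smul_eq_mul, mul_one] at e
    refine e.trans ?_
    change φ m * (1 : B) = φ m
    rw [mul_one]
  let T := ((ModuleCat.extendRestrictScalarsAdj φ).homEquiv (ModuleCat.of A A)
      (ModuleCat.of B B)).symm h
  let inv : B → TensorProduct A B A := fun r => r ⊗ₜ[A] (1 : A)
  have key : ∀ x : TensorProduct A B A, inv (T.hom x) = x := by
    intro x
    induction x using TensorProduct.induction_on with
    | zero => rw [show T.hom (0 : TensorProduct A B A) = (0 : B) from map_zero T.hom]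
              exact TensorProduct.zero_tmul _ _
    | tmul s m =>
      have e : T.hom (s ⊗ₜ[A] m) = s * φ m := by
        refine (homEquiv_symm_tmul φ h s m).trans ?_
        rw [hm]
        rfl
      simp only [inv, e]
      rw [show s * φ m = m • s by rw [mul_comm]; rfl, TensorProduct.smul_tmul, smul_eq_mul,
        mul_one]
    | add x y hx hy =>
      rw [show T.hom (x + y) = (T.hom x + T.hom y : B) from map_add T.hom x y]
      simp only [inv, TensorProduct.add_tmul]
      exact congrArg₂ (· + ·) hx hy
  refine ⟨Function.LeftInverse.injective (g := inv) key, fun r => ⟨inv r, ?_⟩⟩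
  refine (homEquiv_symm_tmul φ h r 1).trans ?_
  rw [h1]
  exact mul_one r

end ChangeOfRings

variable {U V : C} (g : U ⟶ V)

/-- The base change map `O(U) ⊗_{O(V)} F(V) ⟶ F(U)`. -/
noncomputable def bc : ev O V ⋙ ModuleCat.extendScalars (O.obj.map g.op).hom ⟶ ev O U where
  app F := ((ModuleCat.extendRestrictScalarsAdj (O.obj.map g.op).hom).homEquiv
      (F.val.obj (op V) : ModuleCat.{u} (O.obj.obj (op V)))
      (F.val.obj (op U) : ModuleCat.{u} (O.obj.obj (op U)))).symm (F.val.map g.op)
  naturality F G f :=
    homEquiv_symm_naturality (O.obj.map g.op).hom ((ev O V).map f) ((ev O U).map f)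
      (f.val.naturality g.op)

theorem isIso_bc_unit : IsIso ((bc O g).app (ModSite.unit O)) :=
  isIso_homEquiv_symm_self (O.obj.map g.op).hom _ ((O.obj.map g.op).hom.map_one)

/-- The base change maps of `F` are isomorphisms. -/
def IsCartesian (F : ModSite.Mod O) : Prop := ∀ (U V : C) (g : U ⟶ V), IsIso ((bc O g).app F)

theorem isCartesian_free (hJ : IsChaotic J) (I : Type u) :
    IsCartesian O (SheafOfModules.free (R := ModSite.ringSh O) I) := by
  intro U V g
  have := preservesColimits_ev O hJ U
  have := preservesColimits_ev O hJ V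
  haveI : ∀ k, IsIso ((bc O g).app
      ((Discrete.functor fun _ : I => ModSite.unit O).obj k)) := fun k => isIso_bc_unit O g
  exact isIso_app_of_isColimit (bc O g) (SheafOfModules.isColimitFreeCofan I)

theorem isCartesian_cokernel (hJ : IsChaotic J) {F G M : ModSite.Mod O} {α : F ⟶ G} {p : G ⟶ M}
    {w : α ≫ p = 0} (hc : IsColimit (CokernelCofork.ofπ p w)) (hF : IsCartesian O F)
    (hG : IsCartesian O G) : IsCartesian O M := by
  intro U V g
  have := preservesFiniteColimits_ev O hJ U
  have := preservesFiniteColimits_ev O hJ V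
  exact isIso_app_of_isCokernel (bc O g) hc (hF U V g) (hG U V g)

theorem isCartesian_of_isKernel (hfl : ∀ (U V : C) (g : U ⟶ V), (O.obj.map g.op).hom.Flat)
    {K F G : ModSite.Mod O} {α : F ⟶ G} {p : K ⟶ F} {w : p ≫ α = 0}
    (hc : IsLimit (KernelFork.ofι p w)) (hF : IsCartesian O F) (hG : IsCartesian O G) :
    IsCartesian O K := by
  intro U V g
  have := preservesFiniteLimits_ev O U
  have := preservesFiniteLimits_ev O V
  have := ModuleCat.preservesFiniteLimits_extendScalars_of_flat.{u} (hfl U V g)
  exact isIso_app_of_isKernel (bc O g) hc (hF U V g) (hG U V g)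

theorem isCartesian_kernel (hfl : ∀ (U V : C) (g : U ⟶ V), (O.obj.map g.op).hom.Flat)
    {F G : ModSite.Mod O} (α : F ⟶ G) (hF : IsCartesian O F) (hG : IsCartesian O G) :
    IsCartesian O (kernel α) :=
  isCartesian_of_isKernel O hfl (w := kernel.condition α) (kernelIsKernel α) hF hG

theorem isCartesian_extension (hJ : IsChaotic J)
    (hfl : ∀ (U V : C) (g : U ⟶ V), (O.obj.map g.op).hom.Flat) {S : ShortComplex (ModSite.Mod O)}
    (hS : S.ShortExact) (h₁ : IsCartesian O S.X₁) (h₃ : IsCartesian O S.X₃) :
    IsCartesian O S.X₂ := by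
  intro U V g
  have := preservesFiniteLimits_ev O U
  have := preservesFiniteLimits_ev O V
  have := preservesFiniteColimits_ev O hJ U
  have := preservesFiniteColimits_ev O hJ V
  have := ModuleCat.preservesFiniteLimits_extendScalars_of_flat (hfl U V g)
  let F := ev O V ⋙ ModuleCat.extendScalars (O.obj.map g.op).hom
  have hF : (S.map F).ShortExact := hS.map_of_exact F
  have hG : (S.map (ev O U)).ShortExact := hS.map_of_exact (ev O U)
  let φ := S.mapNatTrans (bc O g)
  haveI : IsIso φ.τ₁ := h₁ U V g
  haveI : IsIso φ.τ₃ := h₃ U V g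
  exact ShortComplex.isIso₂_of_shortExact_of_isIso₁₃ φ hF hG

end Groth.Agent.ChaoticQcLib
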