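import Groth.Agent.ChaoticQcLib.Basic

/-!
For a chaotic topology, quasi-coherence is cartesianness.
-/

set_option autoImplicit false
set_option backward.isDefEq.respectTransparency false
set_option backward.isDefEq.respectTransparency.types false
universe u
open CategoryTheory Limits Opposite
open scoped ChangeOfRings

namespace Groth.Agent.ChaoticQcLib

theorem surjective_app_kernel {A : Type*} [Category A] [Abelian A] {R : Type u} [Ring R]
    {P Q : A ⥤ ModuleCat.{u} R} [P.Additive] [Q.Additive] [PreservesFiniteColimits P]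
    [PreservesFiniteLimits Q] (τ : P ⟶ Q) {F M : A} (π : F ⟶ M) [Epi π]
    (hF : IsIso (τ.app F)) (hM : IsIso (τ.app M)) :
    Function.Surjective (τ.app (kernel π)).hom := by
  intro x
  let S : ShortComplex A := ShortComplex.mk (kernel.ι π) π (kernel.condition π)
  have hS : S.ShortExact :=
    { exact := ShortComplex.exact_of_f_is_kernel S (kernelIsKernel π)
      mono_f := inferInstanceAs (Mono (kernel.ι π))
      epi_g := inferInstanceAs (Epi π) }
  have hP : (S.map P).Exact :=
    ShortComplex.exact_of_g_is_cokernel _ (CokernelCofork.mapIsColimit _ hS.gIsCokernel P)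
  obtain ⟨y, hy⟩ := ((ConcreteCategory.isIso_iff_bijective (τ.app F)).1 hF).2
    ((Q.map (kernel.ι π)).hom x)
  have h0 : (P.map π).hom y = 0 := by
    apply ((ConcreteCategory.isIso_iff_bijective (τ.app M)).1 hM).1
    have e := congrArg (fun q => q.hom y) (τ.naturality π)
    simp only [ModuleCat.hom_comp, LinearMap.comp_apply] at e
    refine e.trans ?_
    rw [show (τ.app F).hom y = (Q.map (kernel.ι π)).hom x from hy]
    have e' := congrArg (fun q => q.hom x) (Q.map_comp (kernel.ι π) π)
    simp only [kernel.condition, Q.map_zero, ModuleCat.hom_comp, LinearMap.comp_apply,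
      ModuleCat.hom_zero, LinearMap.zero_apply] at e'
    rw [← e']
    exact (map_zero _).symm
  obtain ⟨z, hz⟩ := (ShortComplex.moduleCat_exact_iff _).1 hP y h0
  refine ⟨z, (ModuleCat.mono_iff_injective (Q.map (kernel.ι π))).1 inferInstance ?_⟩
  have e := congrArg (fun q => q.hom z) (τ.naturality (kernel.ι π))
  simp only [ModuleCat.hom_comp, LinearMap.comp_apply] at e
  refine e.symm.trans ?_
  rw [show (P.map (kernel.ι π)).hom z = y from hz]
  exact hy

theorem mem_range_homEquiv_symm {A B : Type u} [CommRing A] [CommRing B] (φ : A →+* B)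
    {M : ModuleCat.{u} A} {N P : ModuleCat.{u} B} (h : M ⟶ (ModuleCat.restrictScalars φ).obj N)
    (p : P ⟶ N) (hp : ∀ m, ∃ z, p.hom z = (show N from h.hom m))
    (y : (ModuleCat.extendScalars φ).obj M) :
    ∃ z, p.hom z = (((ModuleCat.extendRestrictScalarsAdj φ).homEquiv M N).symm h).hom y := by
  letI := φ.toAlgebra
  induction y using TensorProduct.induction_on with
  | zero => exact ⟨0, (map_zero _).trans (map_zero _).symm⟩
  | tmul s m =>
    obtain ⟨z, hz⟩ := hp m
    refine ⟨(show B from s) • z, ?_⟩
    rw [map_smul, hz]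
    exact (homEquiv_symm_tmul φ h s m).symm
  | add a b ha hb =>
    obtain ⟨za, hza⟩ := ha
    obtain ⟨zb, hzb⟩ := hb
    exact ⟨za + zb, (map_add _ _ _).trans ((congrArg₂ (· + ·) hza hzb).trans (map_add _ _ _).symm)⟩

variable {C : Type u} [SmallCategory C] {J : GrothendieckTopology C}
  (O : Sheaf J CommRingCat.{u}) {T : C} (t : ∀ U, U ⟶ T) (ht : ∀ {U : C} (a b : U ⟶ T), a = b)

/-- The section extending an element over a terminal object. -/
noncomputable def sectionOf (N : ModSite.Mod O) (m : N.val.obj (op T)) : N.sections :=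
  PresheafOfModules.sectionsMk (fun X => N.val.map (t X.unop).op m) (by
    intro X Y f
    rw [← PresheafOfModules.map_comp_apply]
    have : (t X.unop).op ≫ f = (t Y.unop).op := Quiver.Hom.unop_inj (ht _ _)
    rw [this])

include t ht in
theorem exists_generatingSections (hJ : IsChaotic J) (N : ModSite.Mod O)
    (h : ∀ U, Function.Surjective ((bc O (t U)).app N).hom) : Nonempty N.GeneratingSections := by
  refine ⟨{ I := N.val.obj (op T), s := sectionOf O t ht N, epi := ?_ }⟩
  refine epi_of_surjective O _ fun U x => ?_
  let π := N.freeHomEquiv.symm (sectionOf O t ht N)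
  obtain ⟨y, rfl⟩ := h U x
  exact mem_range_homEquiv_symm (O.obj.map (t U).op).hom (N.val.map (t U).op)
    ((ev O U).map π)
    (fun m => ⟨(SheafOfModules.freeSection m).eval (op U),
      congrArg (fun q => PresheafOfModules.sections.eval q (op U))
        (SheafOfModules.sectionsMap_freeHomEquiv_symm_freeSection (sectionOf O t ht N) m)⟩) y

include t ht in
theorem exists_presentation (hJ : IsChaotic J) (N : ModSite.Mod O) (hN : IsCartesian O N) :
    Nonempty (SheafOfModules.Presentation.{u} N) := by
  obtain ⟨σ⟩ := exists_generatingSections O t ht hJ N fun U =>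
    ((ConcreteCategory.isIso_iff_bijective _).1 (hN U T (t U))).2
  obtain ⟨ρ⟩ := exists_generatingSections O t ht hJ (kernel σ.π) fun U => by
    have := preservesFiniteColimits_ev O hJ T
    have := preservesFiniteLimits_ev O U
    have := (ModuleCat.extendRestrictScalarsAdj.{u, u, u} (O.obj.map (t U).op).hom).left_adjoint_additive
    exact surjective_app_kernel (bc O (t U)) σ.π (isCartesian_free O hJ σ.I U T (t U)) (hN U T (t U))
  exact ⟨⟨σ, ρ⟩⟩

omit t in
theorem isCartesian_of_presentation (hJ : IsChaotic J) (N : ModSite.Mod O)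
    (P : SheafOfModules.Presentation.{u} N) : IsCartesian O N :=
  isCartesian_cokernel O hJ P.isColimit (isCartesian_free O hJ _) (isCartesian_free O hJ _)

section

variable {C : Type u} [SmallCategory C] {J : GrothendieckTopology C}
  (O : Sheaf J CommRingCat.{u})

theorem isQuasicoherent_iff (hJ : IsChaotic J) (F : ModSite.Mod O) :
    SheafOfModules.IsQuasicoherent (R := ModSite.ringSh O) F ↔ IsCartesian O F := by
  constructor
  · rintro ⟨⟨q⟩⟩ U V g
    have hq := hJ _ _ (q.coversTop V)
    obtain ⟨i, ⟨h⟩⟩ := (Sieve.mem_ofObjects_iff _ (𝟙 V)).1 (hq ▸ Sieve.top_apply (𝟙 V))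
    exact isCartesian_of_presentation (O.over (q.X i)) (hJ.over _) (F.over (q.X i))
      (q.presentation i) (Over.mk (g ≫ h)) (Over.mk h) (Over.homMk g rfl)
  · intro hF
    have key : ∀ X : C, Nonempty (SheafOfModules.Presentation.{u} (F.over X)) := fun X =>
      exists_presentation (O.over X) (T := Over.mk (𝟙 X))
        (fun U => Over.homMk U.hom (Category.comp_id _)) (fun {U} a b => by
          ext
          have ha := Over.w a
          have hb := Over.w b
          simp only [Over.mk_hom] at ha hb
          exact (Category.comp_id _).symm.trans (ha.trans (hb.symm.trans (Category.comp_id _))))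
        (hJ.over X) (F.over X) (fun U V g => hF U.left V.left g.left)
    suffices h : ∀ Y : C, Sieve.ofObjects (fun X : C => X) Y = ⊤ by
      let q : SheafOfModules.QuasicoherentData.{u, u, u, u} (R := ModSite.ringSh O) F :=
        @SheafOfModules.QuasicoherentData.mk C _ J (ModSite.ringSh O) _ _ F C (fun X => X) (fun Y => J.covering_of_eq_top (h Y)) (fun X => (key X).some)
      exact q.isQuasicoherent
    intro Y
    ext Z f
    simp only [Sieve.top_apply, iff_true]
    exact (Sieve.mem_ofObjects_iff _ f).2 ⟨Z, ⟨𝟙 Z⟩⟩

end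

end Groth.Agent.ChaoticQcLib
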